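import Groth.Agent.GeomField.Connected
import Groth.Agent.H23.GeomConn
import Groth.Prelude.Def_FDesc

/-!
# A point whose residue field is separably closed over the base gives geometric connectedness
-/

open CategoryTheory CategoryTheory.Limits AlgebraicGeometry TensorProduct
open Groth.Agent.GeomField

set_option backward.isDefEq.respectTransparency false
set_option backward.isDefEq.respectTransparency.types false

universe u

namespace Groth.Agent.GeomConn5

attribute [local instance] Curv2.resAlgebra

variable {k : Type u} [Field k] {X : Scheme.{u}} [X.Over (Spec (CommRingCat.of k))]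

theorem spec_resMap (x : X) :
    X.fromSpecResidueField x ≫ (X ↘ Spec (CommRingCat.of k)) = Spec.map (CommRingCat.ofHom (Curv2.resMap k X x)) := by
  have h1 : (X ↘ Spec (CommRingCat.of k)) = X.toSpecΓ ≫ Spec.map (CommRingCat.ofHom (Coh.toGlobal (X ↘ Spec (CommRingCat.of k)))) :=
    H23.GeomConn.eq_toSpecΓ_comp _
  rw [Scheme.fromSpecResidueField, Category.assoc]
  conv_lhs => rw [h1]
  rw [Scheme.fromSpecStalk_toSpecΓ_assoc, ← Spec.map_comp, ← Spec.map_comp]
  rfl

theorem residueFieldProp_iff (x : X) (P : ∀ (K : Type u) [Field K] [Algebra k K], Prop) :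
    FBase.ResidueFieldProp (X ↘ Spec (CommRingCat.of k)) x P ↔ P (X.residueField x) := by
  refine ⟨?_, fun h => ⟨_, (spec_resMap x).symm, h⟩⟩
  rintro ⟨φ, hφ, h⟩
  have e : CommRingCat.ofHom φ = CommRingCat.ofHom (Curv2.resMap k X x) := Spec.map_injective (by rw [hφ, spec_resMap])
  obtain rfl : φ = Curv2.resMap k X x := congrArg CommRingCat.Hom.hom e
  exact h

theorem geometricallyConnected_of_separably_closed_point [ConnectedSpace X] (x : X)
    (hx : ∀ a : X.residueField x, IsSeparable k a → a ∈ Set.range (algebraMap k (X.residueField x))) :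
    GeometricallyConnected (X ↘ Spec (CommRingCat.of k)) := by
  refine geometricallyConnected_of_separableClosure (connectedSpace_bc_of_clopen fun U hU hne hne' => ?_)
  obtain ⟨u, hu, hux⟩ := (image_clopen_eq_univ hU hne).ge (Set.mem_univ x)
  obtain ⟨v, hv, hvx⟩ := (image_clopen_eq_univ hU.compl hne').ge (Set.mem_univ x)
  obtain ⟨F, hF, hFd⟩ := exists_open_descend hU.2 hu
  obtain ⟨V, hV, huV, hVU⟩ := hFd F le_rfl
  let q := FBaseLib.bcMap (X ↘ Spec (CommRingCat.of k)) F (SeparableClosure k)
  have hq : ∀ z, Curv2.bcFst k X F (q z) = Curv2.bcFst k X (SeparableClosure k) z :=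
    fun z => congr($(FBaseLib.bcMap_fst (X ↘ Spec (CommRingCat.of k)) F (SeparableClosure k)).base z)
  have := isDomain_tensor_of_separable F (X.residueField x) hx
  have hF' : IsField (X.residueField x ⊗[k] F) :=
    isField_of_isIntegral_of_isField' (R := X.residueField x) (S := X.residueField x ⊗[k] F) (Field.toIsField _)
  have : Subsingleton (PrimeSpectrum (X.residueField x ⊗[k] F)) := by
    have hbot : ∀ P : PrimeSpectrum (X.residueField x ⊗[k] F), P.asIdeal = ⊥ := fun P => by
      refine eq_bot_iff.2 fun a ha => ?_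
      by_contra h0
      obtain ⟨b, hb⟩ := hF'.mul_inv_cancel h0
      exact P.2.ne_top (P.asIdeal.eq_top_of_isUnit_mem ha (isUnit_iff_exists.2 ⟨b, hb, (mul_comm b a).trans hb⟩))
    exact ⟨fun P Q => PrimeSpectrum.ext ((hbot P).trans (hbot Q).symm)⟩
  have hsub : (Curv2.bcFst k X F ⁻¹' {x}).Subsingleton := by
    let ι := X.fromSpecResidueField x
    have hr : Curv2.bcFst k X F ⁻¹' {x} = Set.range (pullback.snd ι (Curv2.bcFst k X F)) := by
      rw [Scheme.Pullback.range_snd, Scheme.range_fromSpecResidueField]
    have : Subsingleton ↥(pullback ι (Curv2.bcFst k X F)) := @Equiv.subsingleton _ _ (fibreIso F x).hom.homeomorph.toEquiv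
      (inferInstanceAs (Subsingleton (PrimeSpectrum (X.residueField x ⊗[k] F))))
    rw [hr]
    exact Set.subsingleton_range _
  have h2 : q v = q u := hsub (show Curv2.bcFst k X F (q v) ∈ ({x} : Set X) by rw [hq]; exact hvx)
    (show Curv2.bcFst k X F (q u) ∈ ({x} : Set X) by rw [hq]; exact hux)
  exact hv (hVU (show q v ∈ V from h2 ▸ huV))

end Groth.Agent.GeomConn5
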