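import Groth.Agent.GeomConn5.FiniteSep
import Groth.Agent.GeomField.Orbit
import Mathlib.AlgebraicGeometry.Morphisms.QuasiFinite

/-!
# A finite separable extension making irreducible components geometrically irreducible
-/

open CategoryTheory CategoryTheory.Limits AlgebraicGeometry

universe u

set_option backward.isDefEq.respectTransparency false
set_option backward.isDefEq.respectTransparency.types false

namespace Groth.Agent.GeomConn5

attribute [local instance] Curv2.resAlgebra

theorem geometricallyIrreducible_spec_field (L κ : Type u) [Field L] [Field κ] [Algebra L κ]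
    (h : ∀ a : κ, IsSeparable L a → a ∈ Set.range (algebraMap L κ)) :
    GeometricallyIrreducible (Spec.map (CommRingCat.ofHom (algebraMap L κ))) := by
  letI : (Spec (CommRingCat.of κ)).Over (Spec (CommRingCat.of L)) := ⟨Spec.map (CommRingCat.ofHom (algebraMap L κ))⟩
  let W := Spec (CommRingCat.of κ)
  haveI : IrreducibleSpace W := inferInstanceAs (IrreducibleSpace (PrimeSpectrum κ))
  exact (GeomField.geometricallyIrreducible_iff_separable (k := L) (X := W)).2
    (range_of_separable_residue L κ h _)

variable {k : Type u} [Field k] {X : Scheme.{u}} [X.Over (Spec (CommRingCat.of k))]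

variable {x : X} {K : Type u} [Field K] [Algebra k K]

/-- The map `Spec (κ(x) ⊗_{K'} K) ⟶ X_K` attached to an embedding `σ : K' → K`. -/
noncomputable def gmap (σ : separableClosure k (X.residueField x) →ₐ[k] K) :
    pullback (Spec.map (CommRingCat.ofHom (algebraMap (separableClosure k (X.residueField x)) (X.residueField x))))
      (Spec.map (CommRingCat.ofHom σ.toRingHom)) ⟶ Curv2.bc k X K :=
  pullback.lift (pullback.fst _ _ ≫ X.fromSpecResidueField x) (pullback.snd _ _) (by
    rw [Category.assoc, spec_resMap]
    have e : (CommRingCat.ofHom (algebraMap k K)) =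
        CommRingCat.ofHom (algebraMap k (separableClosure k (X.residueField x))) ≫ CommRingCat.ofHom σ.toRingHom := by
      ext r; exact (σ.commutes r).symm
    have e2 : CommRingCat.ofHom (Curv2.resMap k X x) =
        CommRingCat.ofHom (algebraMap k (separableClosure k (X.residueField x))) ≫
          CommRingCat.ofHom (algebraMap (separableClosure k (X.residueField x)) (X.residueField x)) := rfl
    rw [e, e2, Spec.map_comp, Spec.map_comp, pullback.condition_assoc])

theorem geometricallyIrreducible_sep (x : X) :
    GeometricallyIrreducible (Spec.map (CommRingCat.ofHom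
      (algebraMap (separableClosure k (X.residueField x)) (X.residueField x)))) :=
  geometricallyIrreducible_spec_field _ _ fun a ha => by
    haveI : Algebra.IsSeparable k (separableClosure k (X.residueField x)) := separableClosure.isSeparable k _
    exact ⟨⟨a, mem_separableClosure_iff.2 (IsSeparable.of_algebra_isSeparable_of_isSeparable k ha)⟩, rfl⟩

theorem irreducibleSpace_gmap_source (σ : separableClosure k (X.residueField x) →ₐ[k] K) :
    IrreducibleSpace ↥(pullback (Spec.map (CommRingCat.ofHom (algebraMap (separableClosure k (X.residueField x)) (X.residueField x))))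
      (Spec.map (CommRingCat.ofHom σ.toRingHom))) :=
  (geometricallyIrreducible_sep x).geometrically_irreducibleSpace _ _ _ (IsPullback.of_hasPullback _ _)

theorem mem_range_gmap (σ : separableClosure k (X.residueField x) →ₐ[k] K)
    (z : Curv2.bc k X K) (M : CommRingCat.{u}) (ψ : Spec M ⟶ Curv2.bc k X K) (p : Spec M)
    (a : X.residueField x ⟶ M) (b : CommRingCat.of K ⟶ M) (hp : ψ p = z)
    (ha : ψ ≫ Curv2.bcFst k X K = Spec.map a ≫ X.fromSpecResidueField x)
    (hb : ψ ≫ Curv2.bcSnd k X K = Spec.map b)
    (hσ : ∀ w, b.hom (σ w) = a.hom (algebraMap _ (X.residueField x) w)) : z ∈ Set.range (gmap σ) := by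
  subst hp
  let l : Spec M ⟶ pullback (Spec.map (CommRingCat.ofHom (algebraMap (separableClosure k (X.residueField x)) (X.residueField x))))
      (Spec.map (CommRingCat.ofHom σ.toRingHom)) :=
    pullback.lift (Spec.map a) (Spec.map b) (by
      show Spec.map _ ≫ Spec.map _ = Spec.map _ ≫ Spec.map _
      rw [← Spec.map_comp, ← Spec.map_comp]
      congr 1
      ext w
      exact (hσ w).symm)
  have hl : l ≫ gmap σ = ψ := by
    apply pullback.hom_ext
    · simp only [l, gmap, Category.assoc, pullback.lift_fst, pullback.lift_fst_assoc]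
      exact ha.symm
    · simp only [l, gmap, Category.assoc, pullback.lift_snd]
      exact hb.symm
  exact ⟨_, congr($(hl).base p)⟩

theorem subsingleton_gmap_source (L : Type u) [Field L] [Algebra k L] [FiniteDimensional k L]
    (σ : separableClosure k (X.residueField x) →ₐ[k] L) :
    Subsingleton ↥(pullback (Spec.map (CommRingCat.ofHom (algebraMap (separableClosure k (X.residueField x)) (X.residueField x))))
      (Spec.map (CommRingCat.ofHom σ.toRingHom))) := by
  haveI := irreducibleSpace_gmap_source σ
  letI : Algebra (separableClosure k (X.residueField x)) L := σ.toRingHom.toAlgebra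
  haveI : IsScalarTower k (separableClosure k (X.residueField x)) L :=
    IsScalarTower.of_algebraMap_eq fun r => (σ.commutes r).symm
  haveI : Module.Finite (separableClosure k (X.residueField x)) L := Module.Finite.of_restrictScalars_finite k _ L
  haveI : IsFinite (Spec.map (CommRingCat.ofHom σ.toRingHom)) := by
    rw [IsFinite.SpecMap_iff]
    exact inferInstanceAs (Module.Finite (separableClosure k (X.residueField x)) L)
  let q := pullback.fst (Spec.map (CommRingCat.ofHom (algebraMap (separableClosure k (X.residueField x)) (X.residueField x))))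
      (Spec.map (CommRingCat.ofHom σ.toRingHom))
  haveI : IsFinite q := MorphismProperty.pullback_fst _ _ inferInstance
  haveI : Subsingleton ↥(Spec (CommRingCat.of (X.residueField x))) :=
    inferInstanceAs (Subsingleton (PrimeSpectrum (X.residueField x)))
  haveI : IrreducibleSpace ↥(pullback (Spec.map (CommRingCat.ofHom (algebraMap (separableClosure k (X.residueField x)) (X.residueField x))))
      (Spec.map (CommRingCat.ofHom σ.toRingHom))) := irreducibleSpace_gmap_source σ
  have hd : DiscreteTopology (q ⁻¹' {q (Classical.arbitrary _)} : Set _) :=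
    (q.isDiscrete_preimage_singleton _).to_subtype
  have he : (q ⁻¹' {q (Classical.arbitrary _)} : Set _) = Set.univ :=
    Set.eq_univ_of_forall fun y => Subsingleton.elim _ _
  have : DiscreteTopology ↥(pullback (Spec.map (CommRingCat.ofHom (algebraMap (separableClosure k (X.residueField x)) (X.residueField x))))
      (Spec.map (CommRingCat.ofHom σ.toRingHom))) := by
    rw [he] at hd
    exact (Homeomorph.Set.univ _).discreteTopology
  exact ⟨fun y y' => by
    by_contra hne
    obtain ⟨w, -, rfl, h2⟩ := (IrreducibleSpace.isIrreducible_univ _).2 {y} {y'} (isOpen_discrete _) (isOpen_discrete _)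
      ⟨y, trivial, rfl⟩ ⟨y', trivial, rfl⟩
    exact hne h2⟩

theorem range_gmap_subset {L : Type u} [Field L] [Algebra k L] [Algebra L K] [IsScalarTower k L K]
    (σ₀ : separableClosure k (X.residueField x) →ₐ[k] L) :
    (fun p => FBaseLib.bcMap (X ↘ Spec (CommRingCat.of k)) L K p) '' Set.range (gmap ((IsScalarTower.toAlgHom k L K).comp σ₀)) ⊆
      Set.range (gmap σ₀) := by
  rintro _ ⟨_, ⟨y, rfl⟩, rfl⟩
  let sK := Spec.map (CommRingCat.ofHom (algebraMap (separableClosure k (X.residueField x)) (X.residueField x)))
  let σ := (IsScalarTower.toAlgHom k L K).comp σ₀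
  let t : pullback sK (Spec.map (CommRingCat.ofHom σ.toRingHom)) ⟶ pullback sK (Spec.map (CommRingCat.ofHom σ₀.toRingHom)) :=
    pullback.lift (pullback.fst _ _) (pullback.snd _ _ ≫ Spec.map (CommRingCat.ofHom (algebraMap L K))) (by
      rw [Category.assoc, ← Spec.map_comp]
      exact pullback.condition)
  have ht : gmap σ ≫ FBaseLib.bcMap (X ↘ Spec (CommRingCat.of k)) L K = t ≫ gmap σ₀ := by
    apply pullback.hom_ext
    · refine ((Category.assoc _ _ _).trans (congrArg (fun m => gmap σ ≫ m) (FBaseLib.bcMap_fst _ L K))).trans ?_
      refine (pullback.lift_fst _ _ _).trans ?_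
      refine Eq.trans ?_ ((Category.assoc _ _ _).trans (congrArg (fun m => t ≫ m) (pullback.lift_fst _ _ _))).symm
      exact (pullback.lift_fst_assoc _ _ _ _).symm
    · refine ((Category.assoc _ _ _).trans (congrArg (fun m => gmap σ ≫ m) (FBaseLib.bcMap_snd _ L K))).trans ?_
      refine (pullback.lift_snd_assoc _ _ _ _).trans ?_
      refine Eq.trans ?_ ((Category.assoc _ _ _).trans (congrArg (fun m => t ≫ m) (pullback.lift_snd _ _ _))).symm
      exact (pullback.lift_snd _ _ _).symm
  exact ⟨t y, (congr($(ht).base y)).symm⟩

theorem isIrreducible_preimage_bcMap (L : IntermediateField k (SeparableClosure k)) [FiniteDimensional k L] (x : X)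
    (hL : ∀ (σ : separableClosure k (X.residueField x) →ₐ[k] SeparableClosure k) (w), σ w ∈ L)
    (z : Curv2.bc k X L) (hx : Curv2.bcFst k X L z = x)
    (K : Type u) [Field K] [Algebra k K] [Algebra L K] [IsScalarTower k L K] :
    IsIrreducible (FBase.bcπ (FBase.bcStr (X ↘ Spec (CommRingCat.of k)) L) K ⁻¹' closure {z}) := by
  let f := X ↘ Spec (CommRingCat.of k)
  subst hx
  -- the embedding of the separable closure of `k` in `κ(x)` into `L`
  let Mz := (Curv2.bc k X L).residueField z
  let az := (Curv2.bcFst k X L).residueFieldMap z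
  obtain ⟨bz, hbz⟩ := Spec.map_surjective ((Curv2.bc k X L).fromSpecResidueField z ≫ Curv2.bcSnd k X L)
  have hab := spec_resMap_bc L z bz hbz
  letI : Algebra L Mz := bz.hom.toAlgebra
  letI : Algebra k Mz := (bz.hom.comp (algebraMap k L)).toAlgebra
  haveI : IsScalarTower k L Mz := IsScalarTower.of_algebraMap_eq fun _ => rfl
  let Mb := AlgebraicClosure Mz
  let φ : SeparableClosure k →ₐ[L] Mb :=
    haveI : Algebra.IsSeparable L (SeparableClosure k) := Algebra.isSeparable_tower_top_of_isSeparable k L _
    IsSepClosed.lift
  let K' := separableClosure k (X.residueField (Curv2.bcFst k X L z))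
  let aK : K' →ₐ[k] Mb :=
    { toRingHom := (algebraMap Mz Mb).comp (az.hom.comp (algebraMap K' (X.residueField (Curv2.bcFst k X L z))))
      commutes' := fun r => by
        rw [IsScalarTower.algebraMap_apply k Mz Mb]
        exact congrArg (algebraMap Mz Mb) (RingHom.congr_fun hab r) }
  haveI : Algebra.IsSeparable k K' := separableClosure.isSeparable k _
  obtain ⟨σs, hσs⟩ := exists_lift_of_isSepClosed (φ.restrictScalars k) aK
  let σ₀ : K' →ₐ[k] L := σs.codRestrict L.toSubalgebra (hL σs)
  have hσ₀ : ∀ w, bz.hom (σ₀ w) = az.hom (algebraMap K' _ w) := fun w => by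
    apply (algebraMap Mz Mb).injective
    have h4 : φ (algebraMap L (SeparableClosure k) (σ₀ w)) = aK w := hσs w
    rw [φ.commutes] at h4
    exact (IsScalarTower.algebraMap_apply L Mz Mb (σ₀ w)).symm.trans h4
  let σ : K' →ₐ[k] K := (IsScalarTower.toAlgHom k L K).comp σ₀
  let q := FBaseLib.bcMap f L K
  let T := FBaseLib.bcTower f L K
  have hop : IsOpenMap q := q.isOpenMap
  have e : T.hom ≫ q = FBase.bcπ (FBase.bcStr f L) K := Iso.hom_inv_id_assoc _ _
  have e' : ∀ w, FBase.bcπ (FBase.bcStr f L) K w = q (T.hom w) := fun w => (congr($(e).base w)).symm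
  have hqe : q ⁻¹' {z} = Set.range (gmap σ) := by
    refine subset_antisymm (fun w' hw => ?_) ?_
    · obtain ⟨bK, hbK⟩ := Spec.map_surjective ((Curv2.bc k X K).fromSpecResidueField w' ≫ Curv2.bcSnd k X K)
      have hw' : q w' = z := hw
      clear hw
      subst hw'
      have hq : Spec.map (q.residueFieldMap w') ≫ (Curv2.bc k X L).fromSpecResidueField (q w') =
          (Curv2.bc k X K).fromSpecResidueField w' ≫ q := Scheme.Hom.SpecMap_residueFieldMap_fromSpecResidueField _ _
      refine mem_range_gmap σ w' _ ((Curv2.bc k X K).fromSpecResidueField w') (IsLocalRing.closedPoint _)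
        (az ≫ q.residueFieldMap w') bK (Scheme.fromSpecResidueField_apply _ _) ?_ hbK.symm fun w => ?_
      · rw [Spec.map_comp, Category.assoc, Scheme.Hom.SpecMap_residueFieldMap_fromSpecResidueField,
          reassoc_of% hq]
        congr 1
        exact (FBaseLib.bcMap_fst f L K).symm
      · have h5 : CommRingCat.ofHom (algebraMap L K) ≫ bK = bz ≫ q.residueFieldMap w' := by
          apply Spec.map_injective
          rw [Spec.map_comp, Spec.map_comp, hbK, hbz, Category.assoc, reassoc_of% hq]
          congr 1
          exact (FBaseLib.bcMap_snd f L K).symm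
        exact (RingHom.congr_fun (congrArg CommRingCat.Hom.hom h5) (σ₀ w)).trans
          (congrArg (q.residueFieldMap w').hom (hσ₀ w))
    · rintro _ ⟨y, rfl⟩
      have hz : z ∈ Set.range (gmap σ₀) := mem_range_gmap σ₀ z _ ((Curv2.bc k X L).fromSpecResidueField z)
        (IsLocalRing.closedPoint _) az bz (Scheme.fromSpecResidueField_apply _ _)
        (Scheme.Hom.SpecMap_residueFieldMap_fromSpecResidueField _ _).symm hbz.symm hσ₀
      obtain ⟨y₀, hy₀⟩ := hz
      haveI := subsingleton_gmap_source L σ₀
      show q (gmap σ y) = z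
      obtain ⟨y₁, hy₁⟩ := range_gmap_subset σ₀ ⟨_, ⟨y, rfl⟩, rfl⟩
      exact hy₁.symm.trans ((congrArg (gmap σ₀) (Subsingleton.elim y₁ y₀)).trans hy₀)
  haveI := irreducibleSpace_gmap_source σ
  have hirr : IsIrreducible (q ⁻¹' closure {z}) := by
    rw [hop.preimage_closure_eq_closure_preimage q.continuous, hqe]
    refine IsIrreducible.closure ?_
    rw [← Set.image_univ]
    exact (IrreducibleSpace.isIrreducible_univ _).image _ (gmap σ).continuous.continuousOn
  have := hirr.image _ T.inv.continuous.continuousOn
  convert this using 1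
  ext w
  simp only [Set.mem_preimage, Set.mem_image]
  constructor
  · intro hw
    exact ⟨T.hom w, by rwa [← e' w], congr($(T.hom_inv_id).base w)⟩
  · rintro ⟨v, hv, rfl⟩
    rw [e', show T.hom (T.inv v) = v from congr($(T.inv_hom_id).base v)]
    exact hv

end Groth.Agent.GeomConn5
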