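import Groth.Agent.GeomField.ConnComp
import Groth.Prelude.Def_FDesc

/-!
# Preimage of a connected component containing a geometrically connected piece
-/

open CategoryTheory CategoryTheory.Limits AlgebraicGeometry
open Groth.Agent.GeomField

universe u

namespace Groth.Agent.GeomConn5

variable {k : Type u} [Field k] {X : Scheme.{u}} [X.Over (Spec (CommRingCat.of k))]

/-- If one fibre over the component of `y` lies in a preconnected subset, the preimage of the component is connected. -/
theorem isConnected_preimage_connectedComponent (K : Type u) [Field K] [Algebra k K] (y : X)
    {S : Set (Curv2.bc k X K)} (hS : _root_.IsPreconnected S) (hy : Curv2.bcFst k X K ⁻¹' {y} ⊆ S) :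
    _root_.IsConnected (Curv2.bcFst k X K ⁻¹' connectedComponent y) := by
  obtain ⟨w, hw⟩ := surjective_bcFst (k := k) (X := X) K y
  suffices Curv2.bcFst k X K ⁻¹' connectedComponent y = connectedComponent w by
    rw [this]; exact isConnected_connectedComponent
  refine subset_antisymm (fun z hz => ?_) (fun z hz => ?_)
  · have h1 : Curv2.bcFst k X K '' connectedComponent z = connectedComponent y := by
      rw [image_connectedComponent]; exact (connectedComponent_eq hz).symm
    obtain ⟨t, ht, hty⟩ := h1.ge (mem_connectedComponent (x := y))
    rw [connectedComponent_eq (hS.subset_connectedComponent (hy hw) (hy (show t ∈ Curv2.bcFst k X K ⁻¹' {y} from hty))),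
      ← connectedComponent_eq ht]
    exact mem_connectedComponent
  · have := ((Curv2.bcFst k X K).continuous.image_connectedComponent_subset w) ⟨z, hz, rfl⟩
    rwa [hw] at this

end Groth.Agent.GeomConn5
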