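import Groth.Agent.GeomConn5.Point
import Groth.Agent.GeomField.ConnComp
import Mathlib.FieldTheory.IsAlgClosed.Basic
import Mathlib.FieldTheory.SeparableClosure
import Mathlib.FieldTheory.PrimitiveElement

/-!
# Components of a base change are controlled by the separable closure in a residue field
-/

open CategoryTheory CategoryTheory.Limits AlgebraicGeometry

universe u

set_option backward.isDefEq.respectTransparency false
set_option backward.isDefEq.respectTransparency.types false

namespace Groth.Agent.GeomConn5

attribute [local instance] Curv2.resAlgebra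

theorem surjective_of_isPreimmersion_specMap {A B : Type u} [Field A] [CommRing B] [Nontrivial B] [IsLocalRing B] (f : A →+* B)
    [h : IsPreimmersion (Spec.map (CommRingCat.ofHom f))] : Function.Surjective f := by
  have := ((IsPreimmersion.SpecMap_iff (f := CommRingCat.ofHom f)).1 h).2
  exact (RingHom.surjectiveOnStalks_iff_of_isLocalHom (f := f)).1 this

/-- Separably closed in a field, separably closed in the residue field of its spectrum. -/
theorem range_of_separable_residue (L κ : Type u) [Field L] [Field κ] [Algebra L κ]
    (h : ∀ a : κ, IsSeparable L a → a ∈ Set.range (algebraMap L κ)) :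
    letI : (Spec (CommRingCat.of κ)).Over (Spec (CommRingCat.of L)) := ⟨Spec.map (CommRingCat.ofHom (algebraMap L κ))⟩
    ∀ (p : Spec (CommRingCat.of κ)) (a : (Spec (CommRingCat.of κ)).residueField p),
      IsSeparable L a → a ∈ Set.range (algebraMap L ((Spec (CommRingCat.of κ)).residueField p)) := by
  let W := Spec (CommRingCat.of κ)
  letI : W.Over (Spec (CommRingCat.of L)) := ⟨Spec.map (CommRingCat.ofHom (algebraMap L κ))⟩
  intro p a ha
  obtain ⟨ψ, hψ⟩ := Spec.map_surjective (W.fromSpecResidueField p)
  haveI : IsPreimmersion (Spec.map ψ) := by rw [hψ]; infer_instance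
  have hsur : Function.Surjective ψ.hom := surjective_of_isPreimmersion_specMap ψ.hom
  have hcomp : ψ.hom.comp (algebraMap L κ) = Curv2.resMap L W p := by
    have h1 := spec_resMap (k := L) p
    rw [← hψ] at h1
    have h2 : Spec.map ψ ≫ Spec.map (CommRingCat.ofHom (algebraMap L κ)) = _ := h1
    rw [← Spec.map_comp] at h2
    exact congrArg CommRingCat.Hom.hom (Spec.map_injective h2)
  let e : κ →ₐ[L] W.residueField p := { toRingHom := ψ.hom, commutes' := fun r => RingHom.congr_fun hcomp r }
  obtain ⟨b, rfl⟩ := hsur a
  have hb : IsSeparable L b := by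
    have hm' : minpoly L (ψ.hom b) = minpoly L b := minpoly.algHom_eq e e.toRingHom.injective b
    unfold IsSeparable at ha ⊢
    rwa [hm'] at ha
  obtain ⟨r, rfl⟩ := h b hb
  exact ⟨r, (e.commutes r).symm⟩

/-- The spectrum of a field in which the base is separably closed is geometrically connected. -/
theorem geometricallyConnected_spec_field (L κ : Type u) [Field L] [Field κ] [Algebra L κ]
    (h : ∀ a : κ, IsSeparable L a → a ∈ Set.range (algebraMap L κ)) :
    GeometricallyConnected (Spec.map (CommRingCat.ofHom (algebraMap L κ))) := by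
  letI : (Spec (CommRingCat.of κ)).Over (Spec (CommRingCat.of L)) := ⟨Spec.map (CommRingCat.ofHom (algebraMap L κ))⟩
  let W := Spec (CommRingCat.of κ)
  haveI : Subsingleton W := inferInstanceAs (Subsingleton (PrimeSpectrum κ))
  haveI : Nonempty W := inferInstanceAs (Nonempty (PrimeSpectrum κ))
  haveI : PreconnectedSpace W := ⟨Set.subsingleton_univ.isPreconnected⟩
  haveI : ConnectedSpace W := { toNonempty := inferInstance }
  exact geometricallyConnected_of_separably_closed_point (k := L) (X := W) (Classical.arbitrary W)
    (range_of_separable_residue L κ h _)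

variable {k : Type u} [Field k] {X : Scheme.{u}} [X.Over (Spec (CommRingCat.of k))]

theorem spec_resMap_bc (K : Type u) [Field K] [Algebra k K] (z : Curv2.bc k X K)
    (b : CommRingCat.of K ⟶ (Curv2.bc k X K).residueField z)
    (hb : Spec.map b = (Curv2.bc k X K).fromSpecResidueField z ≫ Curv2.bcSnd k X K) :
    ((Curv2.bcFst k X K).residueFieldMap z).hom.comp (Curv2.resMap k X (Curv2.bcFst k X K z)) =
      b.hom.comp (algebraMap k K) := by
  have h2 : Spec.map ((Curv2.bcFst k X K).residueFieldMap z) ≫
      Spec.map (CommRingCat.ofHom (Curv2.resMap k X (Curv2.bcFst k X K z))) =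
      Spec.map b ≫ Spec.map (CommRingCat.ofHom (algebraMap k K)) := by
    rw [← spec_resMap, Scheme.Hom.SpecMap_residueFieldMap_fromSpecResidueField_assoc, hb, Category.assoc]
    congr 1
    exact pullback.condition
  rw [← Spec.map_comp, ← Spec.map_comp] at h2
  exact congrArg CommRingCat.Hom.hom (Spec.map_injective h2)

/-- The points over `x` whose embedding of the separable closure is `σ` lie in one connected piece. -/
theorem exists_preconnected (K : Type u) [Field K] [Algebra k K] (x : X)
    (σ : separableClosure k (X.residueField x) →ₐ[k] K) :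
    ∃ S : Set (Curv2.bc k X K), _root_.IsConnected S ∧
      ∀ (z : Curv2.bc k X K) (M : CommRingCat.{u}) (ψ : Spec M ⟶ Curv2.bc k X K) (p : Spec M)
        (a : X.residueField x ⟶ M) (b : CommRingCat.of K ⟶ M), ψ p = z →
        ψ ≫ Curv2.bcFst k X K = Spec.map a ≫ X.fromSpecResidueField x →
        ψ ≫ Curv2.bcSnd k X K = Spec.map b →
        (∀ w, b.hom (σ w) = a.hom (algebraMap _ (X.residueField x) w)) → z ∈ S := by
  let K' := separableClosure k (X.residueField x)
  have hK : ∀ a : X.residueField x, IsSeparable K' a → a ∈ Set.range (algebraMap K' (X.residueField x)) := fun a ha => by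
    haveI : Algebra.IsSeparable k K' := separableClosure.isSeparable k _
    have h1 : IsSeparable k a := IsSeparable.of_algebra_isSeparable_of_isSeparable k ha
    exact ⟨⟨a, mem_separableClosure_iff.2 h1⟩, rfl⟩
  haveI hg := geometricallyConnected_spec_field K' (X.residueField x) hK
  let sκ := Spec.map (CommRingCat.ofHom (algebraMap K' (X.residueField x)))
  haveI : ConnectedSpace ↥(pullback sκ (Spec.map (CommRingCat.ofHom σ.toRingHom))) :=
    GeometricallyConnected.geometrically_connectedSpace (f := sκ) _ _ _ (IsPullback.of_hasPullback _ _)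
  let g : pullback sκ (Spec.map (CommRingCat.ofHom σ.toRingHom)) ⟶ Curv2.bc k X K :=
    pullback.lift (pullback.fst _ _ ≫ X.fromSpecResidueField x) (pullback.snd _ _) (by
      rw [Category.assoc, spec_resMap]
      have e : (CommRingCat.ofHom (algebraMap k K)) = CommRingCat.ofHom (algebraMap k K') ≫ CommRingCat.ofHom σ.toRingHom := by
        ext r; exact (σ.commutes r).symm
      have e2 : CommRingCat.ofHom (Curv2.resMap k X x) = CommRingCat.ofHom (algebraMap k K') ≫ CommRingCat.ofHom (algebraMap K' (X.residueField x)) := rfl
      rw [e, e2, Spec.map_comp, Spec.map_comp, pullback.condition_assoc])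
  refine ⟨Set.range g, isConnected_range g.continuous, fun z M ψ p a b hp ha hb hσ => ?_⟩
  subst hp
  let l : Spec M ⟶ pullback sκ (Spec.map (CommRingCat.ofHom σ.toRingHom)) :=
    pullback.lift (Spec.map a) (Spec.map b) (by
      show Spec.map _ ≫ Spec.map _ = Spec.map _ ≫ Spec.map _
      rw [← Spec.map_comp, ← Spec.map_comp]
      congr 1
      ext w
      exact (hσ w).symm)
  have hl : l ≫ g = ψ := by
    apply pullback.hom_ext
    · simp only [l, g, Category.assoc, pullback.lift_fst, pullback.lift_fst_assoc]
      exact ha.symm
    · simp only [l, g, Category.assoc, pullback.lift_snd]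
      exact hb.symm
  exact ⟨_, congr($(hl).base p)⟩

/-- There are at most `[κ(x)_s : k]` connected components after extension to an algebraically closed field. -/
theorem connectedComponents_bc_le (Ω : Type u) [Field Ω] [Algebra k Ω] [IsAlgClosed Ω] [ConnectedSpace X] (x : X)
    [FiniteDimensional k (separableClosure k (X.residueField x))] :
    Finite (_root_.ConnectedComponents (Curv2.bc k X Ω)) ∧
      Nat.card (_root_.ConnectedComponents (Curv2.bc k X Ω)) ≤
        Module.finrank k (separableClosure k (X.residueField x)) := by
  let κ := X.residueField x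
  let K' := separableClosure k κ
  choose S hS hmemS using fun σ : K' →ₐ[k] Ω => exists_preconnected Ω x σ
  let c : (K' →ₐ[k] Ω) → _root_.ConnectedComponents (Curv2.bc k X Ω) := fun σ =>
    ConnectedComponents.mk (hS σ).nonempty.some
  have hc : Function.Surjective c := by
    intro q
    obtain ⟨z₀, rfl⟩ := ConnectedComponents.surjective_coe q
    have h1 := GeomField.image_connectedComponent (k := k) Ω z₀
    obtain ⟨z, hz, hzx⟩ := h1.ge (show x ∈ connectedComponent (Curv2.bcFst k X Ω z₀) by
      rw [PreconnectedSpace.connectedComponent_eq_univ]; trivial)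
    subst hzx
    let M := (Curv2.bc k X Ω).residueField z
    let a : κ →+* M := ((Curv2.bcFst k X Ω).residueFieldMap z).hom
    obtain ⟨b, hb⟩ := Spec.map_surjective ((Curv2.bc k X Ω).fromSpecResidueField z ≫ Curv2.bcSnd k X Ω)
    have hab := spec_resMap_bc Ω z b hb
    letI : Algebra Ω M := b.hom.toAlgebra
    letI : Algebra k M := (b.hom.comp (algebraMap k Ω)).toAlgebra
    haveI : IsScalarTower k Ω M := IsScalarTower.of_algebraMap_eq fun _ => rfl
    let aK : K' →ₐ[k] M :=
      { toRingHom := a.comp (algebraMap K' κ)
        commutes' := fun r => RingHom.congr_fun hab r }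
    have hmem : ∀ w : K', aK w ∈ (IsScalarTower.toAlgHom k Ω M).range := fun w => by
      have hi : IsIntegral k (aK w) := (Algebra.IsIntegral.isIntegral (R := k) w).map aK
      have hi' : IsIntegral Ω (aK w) := hi.tower_top
      obtain ⟨r, hr⟩ := (IsAlgClosed.algebraMap_bijective_of_isIntegral (k := Ω) (K := integralClosure Ω M)).2 ⟨aK w, hi'⟩
      exact ⟨r, congrArg Subtype.val hr⟩
    let σ : K' →ₐ[k] Ω := (AlgEquiv.ofInjective (IsScalarTower.toAlgHom k Ω M) b.hom.injective).symm.toAlgHom.comp
      (aK.codRestrict _ hmem)
    have hσ : ∀ w, b.hom (σ w) = a (algebraMap K' κ w) := fun w =>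
      congrArg Subtype.val ((AlgEquiv.ofInjective (IsScalarTower.toAlgHom k Ω M) b.hom.injective).apply_symm_apply
        ⟨aK w, hmem w⟩)
    refine ⟨σ, ?_⟩
    have hzS : z ∈ S σ := hmemS σ z M ((Curv2.bc k X Ω).fromSpecResidueField z) (IsLocalRing.closedPoint M)
      ((Curv2.bcFst k X Ω).residueFieldMap z) b (Scheme.fromSpecResidueField_apply _ _)
      (Scheme.Hom.SpecMap_residueFieldMap_fromSpecResidueField _ _).symm hb.symm hσ
    have hz' : z ∈ connectedComponent (hS σ).nonempty.some :=
      (hS σ).isPreconnected.subset_connectedComponent (hS σ).nonempty.some_mem hzS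
    exact ConnectedComponents.coe_eq_coe.2 ((connectedComponent_eq hz').trans (connectedComponent_eq hz).symm)
  haveI : Finite (K' →ₐ[k] Ω) := Finite.of_fintype _
  refine ⟨Finite.of_surjective c hc, (Nat.card_le_card_of_surjective c hc).trans ?_⟩
  haveI : Algebra.IsSeparable k K' := separableClosure.isSeparable k κ
  rw [Nat.card_eq_fintype_card, AlgHom.card]

end Groth.Agent.GeomConn5
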