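import Groth.Agent.GeomConn5.Count
import Groth.Agent.GeomConn5.Comp
import Groth.Agent.FBaseLib.Compositum
import Mathlib.FieldTheory.IsSepClosed
import Mathlib.FieldTheory.IsAlgClosed.AlgebraicClosure

/-!
# A finite separable extension making components geometrically connected
-/

open CategoryTheory CategoryTheory.Limits AlgebraicGeometry

universe u

set_option backward.isDefEq.respectTransparency false
set_option backward.isDefEq.respectTransparency.types false

namespace Groth.Agent.GeomConn5

attribute [local instance] Curv2.resAlgebra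

/-- A map out of a separable extension into a field over which the target is a separably closed subfield. -/
theorem exists_lift_of_isSepClosed {k Ω K' M : Type u} [Field k] [Field Ω] [Algebra k Ω] [IsSepClosed Ω] [Field M]
    [Algebra k M] [Field K'] [Algebra k K'] [Algebra.IsSeparable k K'] (φ : Ω →ₐ[k] M) (a : K' →ₐ[k] M) :
    ∃ σ : K' →ₐ[k] Ω, ∀ w, φ (σ w) = a w := by
  letI : Algebra Ω M := φ.toRingHom.toAlgebra
  haveI : IsScalarTower k Ω M := IsScalarTower.of_algebraMap_eq fun r => (φ.commutes r).symm
  have hmem : ∀ w : K', a w ∈ φ.range := fun w => by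
    have h1 : IsSeparable k (a w) := by
      have h0 : IsSeparable k w := Algebra.IsSeparable.isSeparable k w
      unfold IsSeparable at h0 ⊢
      rwa [minpoly.algHom_eq a a.toRingHom.injective w]
    have h2 : IsSeparable Ω (a w) := h1.tower_top Ω
    obtain ⟨r, hr⟩ := IsSepClosed.algebraMap_surjective Ω (separableClosure Ω M)
      ⟨a w, mem_separableClosure_iff.2 h2⟩
    exact ⟨r, congrArg Subtype.val hr⟩
  refine ⟨(AlgEquiv.ofInjective φ φ.toRingHom.injective).symm.toAlgHom.comp (a.codRestrict _ hmem), fun w => ?_⟩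
  exact congrArg Subtype.val ((AlgEquiv.ofInjective φ φ.toRingHom.injective).apply_symm_apply ⟨a w, hmem w⟩)

variable {k : Type u} [Field k] {X : Scheme.{u}} [X.Over (Spec (CommRingCat.of k))]

theorem isConnected_preimage_bcMap (L : IntermediateField k (SeparableClosure k)) (x : X)
    (hL : ∀ (σ : separableClosure k (X.residueField x) →ₐ[k] SeparableClosure k) (w), σ w ∈ L)
    (x' : Curv2.bc k X L) (hx : x ∈ connectedComponent (Curv2.bcFst k X L x'))
    (K : Type u) [Field K] [Algebra k K] [Algebra L K] [IsScalarTower k L K] :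
    _root_.IsConnected (FBase.bcπ (FBase.bcStr (X ↘ Spec (CommRingCat.of k)) L) K ⁻¹' connectedComponent x') := by
  let f := X ↘ Spec (CommRingCat.of k)
  obtain ⟨z, hz, hzx⟩ := (GeomField.image_connectedComponent (k := k) L x').ge hx
  subst hzx
  rw [connectedComponent_eq hz]
  -- the embedding of the separable closure of `k` in `κ(x)` into `L`
  let Mz := (Curv2.bc k X L).residueField z
  let az := (Curv2.bcFst k X L).residueFieldMap z
  obtain ⟨bz, hbz⟩ := Spec.map_surjective ((Curv2.bc k X L).fromSpecResidueField z ≫ Curv2.bcSnd k X L)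
  have hab := spec_resMap_bc L z bz hbz
  letI : Algebra L Mz := bz.hom.toAlgebra
  letI : Algebra k Mz := (bz.hom.comp (algebraMap k L)).toAlgebra
  haveI : IsScalarTower k L Mz := IsScalarTower.of_algebraMap_eq fun _ => rfl
  let Mb := AlgebraicClosure Mz
  let φ : SeparableClosure k →ₐ[L] Mb :=
    haveI : Algebra.IsSeparable L (SeparableClosure k) := Algebra.isSeparable_tower_top_of_isSeparable k L _
    IsSepClosed.lift
  let K' := separableClosure k (X.residueField (Curv2.bcFst k X L z))
  let aK : K' →ₐ[k] Mb :=
    { toRingHom := (algebraMap Mz Mb).comp (az.hom.comp (algebraMap K' (X.residueField (Curv2.bcFst k X L z))))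
      commutes' := fun r => by
        rw [IsScalarTower.algebraMap_apply k Mz Mb]
        exact congrArg (algebraMap Mz Mb) (RingHom.congr_fun hab r) }
  haveI : Algebra.IsSeparable k K' := separableClosure.isSeparable k _
  obtain ⟨σs, hσs⟩ := exists_lift_of_isSepClosed (φ.restrictScalars k) aK
  let σ₀ : K' →ₐ[k] L := σs.codRestrict L.toSubalgebra (hL σs)
  have hσ₀ : ∀ w, bz.hom (σ₀ w) = az.hom (algebraMap K' _ w) := fun w => by
    apply (algebraMap Mz Mb).injective
    have h4 : φ (algebraMap L (SeparableClosure k) (σ₀ w)) = aK w := hσs w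
    rw [φ.commutes] at h4
    exact (IsScalarTower.algebraMap_apply L Mz Mb (σ₀ w)).symm.trans h4
  obtain ⟨S, hS, hmemS⟩ := exists_preconnected K _ ((IsScalarTower.toAlgHom k L K).comp σ₀)
  let q := FBaseLib.bcMap f L K
  let T := FBaseLib.bcTower f L K
  letI : (Curv2.bc k X L).Over (Spec (CommRingCat.of L)) := ⟨Curv2.bcSnd k X L⟩
  refine isConnected_preimage_connectedComponent (k := L) (X := Curv2.bc k X L) K z
    (hS.isPreconnected.image T.inv T.inv.continuous.continuousOn) fun w hw => ?_
  let w' : Curv2.bc k X K := T.hom w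
  refine ⟨w', ?_, congr($(T.hom_inv_id).base w)⟩
  have hqw : q w' = z := by
    have e : T.hom ≫ q = FBase.bcπ (FBase.bcStr f L) K := Iso.hom_inv_id_assoc _ _
    exact (congr($(e).base w)).trans hw
  clear_value w'
  clear hw w
  subst hqw
  obtain ⟨bK, hbK⟩ := Spec.map_surjective ((Curv2.bc k X K).fromSpecResidueField w' ≫ Curv2.bcSnd k X K)
  have hq : Spec.map (q.residueFieldMap w') ≫ (Curv2.bc k X L).fromSpecResidueField (q w') =
      (Curv2.bc k X K).fromSpecResidueField w' ≫ q := Scheme.Hom.SpecMap_residueFieldMap_fromSpecResidueField _ _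
  refine hmemS w' _ ((Curv2.bc k X K).fromSpecResidueField w') (IsLocalRing.closedPoint _)
    (az ≫ q.residueFieldMap w') bK (Scheme.fromSpecResidueField_apply _ _) ?_ hbK.symm fun w => ?_
  · rw [Spec.map_comp, Category.assoc, Scheme.Hom.SpecMap_residueFieldMap_fromSpecResidueField,
      reassoc_of% hq]
    congr 1
    exact (FBaseLib.bcMap_fst f L K).symm
  · have h5 : CommRingCat.ofHom (algebraMap L K) ≫ bK = bz ≫ q.residueFieldMap w' := by
      apply Spec.map_injective
      rw [Spec.map_comp, Spec.map_comp, hbK, hbz, Category.assoc, reassoc_of% hq]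
      congr 1
      exact (FBaseLib.bcMap_snd f L K).symm
    exact (RingHom.congr_fun (congrArg CommRingCat.Hom.hom h5) (σ₀ w)).trans
      (congrArg (q.residueFieldMap w').hom (hσ₀ w))

end Groth.Agent.GeomConn5
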